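import Groth.Agent.Lib.RelTilde8.Rel
import Groth.Agent.Lib.RelProjK.Tensor

/-!
# Tensoring the module on a relative Proj with a twist
-/

set_option autoImplicit false
set_option backward.isDefEq.respectTransparency false
set_option synthInstance.maxHeartbeats 80000

universe u

open CategoryTheory AlgebraicGeometry TopologicalSpace Opposite MonoidalCategory
open GrothLib.RelProjK (dg rs rs_irr em em_comap mem_opensRange_em tr app_tr Tw vl onChart vl_cm gv exists_frac_rep fracSec gv_fracSec frac_mul_inv)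
open scoped HomogeneousIdeal
open scoped TensorProduct

noncomputable section

namespace GrothLib.RelTildeTwist8

section chart

variable {A σ : Type u} [CommRing A] [SetLike σ A] [AddSubgroupClass σ A] {𝒜 : ℕ → σ} [GradedRing 𝒜]
variable {M τ : Type u} [AddCommGroup M] [Module A M] [SetLike τ M] [AddSubgroupClass τ M] {ℳ : ℕ → τ}
  [SetLike.GradedSMul 𝒜 ℳ] {V : Opens (ProjectiveSpectrum.top 𝒜)}

/-- The value of a section. -/
abbrev gvM {n : ℤ} (t : GrMod.sect 𝒜 ℳ n (op V)) (y : V) : GrMod.LocMod 𝒜 (M := M) y.1 :=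
  ((t.1 y : GrMod.tildeAt 𝒜 ℳ n y.1) : GrMod.LocMod 𝒜 (M := M) y.1)

theorem gvM_ext {n : ℤ} {t t' : GrMod.sect 𝒜 ℳ n (op V)} (h : ∀ y, gvM t y = gvM t' y) : t = t' :=
  Subtype.ext (funext fun y => Subtype.ext (h y))

theorem exists_rep_smul {m n k : ℤ} (h : m + n = k) (t : GrMod.sect 𝒜 ℳ m (op V))
    (t' : GrTwist.sectN (𝒜 := 𝒜) n (op V)) (x : V) :
    ∃ (W : Opens (ProjectiveSpectrum.top 𝒜)) (_ : x.1 ∈ W) (hW : W ≤ V) (i j : ℕ) (a : ℳ i) (s : 𝒜 j)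
      (nin : ∀ w : W, (s : A) ∉ w.1.asHomogeneousIdeal),
      ((i : ℤ) = j + k ∨ (a : M) = 0) ∧
        ∀ w : W, gv t' ⟨w.1, hW w.2⟩ • gvM t ⟨w.1, hW w.2⟩ = LocalizedModule.mk (a : M) ⟨(s : A), nin w⟩ := by
  obtain ⟨W₁, hx₁, iW₁, i₁, j₁, ⟨a, ha⟩, ⟨s, hs⟩, nin₁, hd₁, hw₁⟩ := t.2 x
  obtain ⟨W₂, hx₂, hW₂, i₂, j₂, ⟨b, hb⟩, ⟨r, hr⟩, nin₂, hd₂, hw₂⟩ := exists_frac_rep t' x
  refine ⟨W₁ ⊓ W₂, ⟨hx₁, hx₂⟩, inf_le_left.trans (leOfHom iW₁), i₂ + i₁, j₂ + j₁,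
    ⟨b • a, SetLike.GradedSMul.smul_mem hb ha⟩, ⟨r * s, SetLike.mul_mem_graded hr hs⟩,
    fun w hm => (w.1.isPrime.mem_or_mem hm).elim (nin₂ ⟨w.1, w.2.2⟩) (nin₁ ⟨w.1, w.2.1⟩), ?_, fun w => ?_⟩
  · replace hd₁ : (i₁ : ℤ) = j₁ + m ∨ a = 0 := hd₁
    rcases hd₂ with h₂ | h₂
    · rcases hd₁ with h₁ | h₁
      · exact Or.inl (by push_cast; omega)
      · exact Or.inr (show b • a = 0 by rw [h₁, smul_zero])
    · exact Or.inr (show b • a = 0 by rw [show b = 0 from h₂, zero_smul])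
  · refine (congrArg₂ (· • ·) (hw₂ ⟨w.1, w.2.2⟩)
      (show gvM t ⟨w.1, leOfHom iW₁ w.2.1⟩ = _ from hw₁ ⟨w.1, w.2.1⟩)).trans ?_
    exact LocalizedModule.mk_smul_mk _ _ _ _

theorem smul_mem_tildeAt {m n k : ℤ} (h : m + n = k) (t : GrMod.sect 𝒜 ℳ m (op V))
    (t' : GrTwist.sectN (𝒜 := 𝒜) n (op V)) (x : V) : gv t' x • gvM t x ∈ GrMod.tildeAt 𝒜 ℳ k x.1 := by
  obtain ⟨W, hx, hW, i, j, a, s, nin, hd, hw⟩ := exists_rep_smul h t t' x
  rw [show gv t' x • gvM t x = _ from hw ⟨x.1, hx⟩]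
  rcases hd with h' | h'
  · exact Submodule.subset_span ⟨i, j, a, s, nin ⟨x.1, hx⟩, h', rfl⟩
  · rw [h', LocalizedModule.zero_mk]; exact zero_mem _

/-- The product of a section of `M(m)~` with one of a twist. -/
def smulSec {m n k : ℤ} (h : m + n = k) (t : GrMod.sect 𝒜 ℳ m (op V))
    (t' : GrTwist.sectN (𝒜 := 𝒜) n (op V)) : GrMod.sect 𝒜 ℳ k (op V) :=
  ⟨fun x => ⟨gv t' x • gvM t x, smul_mem_tildeAt h t t' x⟩, fun x => by
    obtain ⟨W, hx, hW, i, j, a, s, nin, hd, hw⟩ := exists_rep_smul h t t' x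
    exact ⟨W, hx, homOfLE hW, i, j, a, s, nin, hd, hw⟩⟩

theorem gvM_smulSec {m n k : ℤ} (h : m + n = k) (t : GrMod.sect 𝒜 ℳ m (op V))
    (t' : GrTwist.sectN (𝒜 := 𝒜) n (op V)) (y : V) : gvM (smulSec h t t') y = gv t' y • gvM t y := rfl

/-- Multiplication by an invertible fraction is bijective. -/
theorem bijective_smulSec_fracSec {m n k : ℤ} (h : m + n = k) {i j : ℕ} {P Q : A} (hP : P ∈ 𝒜 i) (hQ : Q ∈ 𝒜 j)
    (ninP : ∀ y : V, P ∉ y.1.asHomogeneousIdeal) (ninQ : ∀ y : V, Q ∉ y.1.asHomogeneousIdeal)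
    (hd : (i : ℤ) = j + n) :
    Function.Bijective fun t : GrMod.sect 𝒜 ℳ m (op V) => smulSec h t (fracSec P Q hP hQ ninQ hd) := by
  refine Function.bijective_iff_has_inverse.mpr
    ⟨fun t => smulSec (m := k) (n := -n) (k := m) (by omega) t (fracSec Q P hQ hP ninP (by omega)),
      fun t => gvM_ext fun y => ?_, fun t => gvM_ext fun y => ?_⟩
  · rw [gvM_smulSec, gvM_smulSec, gv_fracSec, gv_fracSec, ← mul_smul, frac_mul_inv (ninQ y) (ninP y), one_smul]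
  · rw [gvM_smulSec, gvM_smulSec, gv_fracSec, gv_fracSec, ← mul_smul, frac_mul_inv (ninP y) (ninQ y), one_smul]

end chart

variable {S P : Scheme.{u}} {𝒮 : RelProj.QCGrAlg S} {p : P ⟶ S}
  {chart : ∀ (U : S.Opens) (hU : IsAffineOpen U), (((p ⁻¹ᵁ U : P.Opens) : Scheme.{u}) ≅ Proj (𝒮.deg U hU))}
  {ℳ : RelProj.GrModule 𝒮}
open GrothLib.RelTilde8 (TwM vlM vlM_ext cmM vlM_cmM isFam_of_isRelTilde mrs)

/-- A section read on a chart. -/
abbrev onChartM {n : ℤ} {F : P.Modules}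
    (lam : ∀ (U : S.Opens) (hU : IsAffineOpen U),
      F ⟶ (Scheme.Modules.pushforward (RelProj.emb p chart U hU)).obj (GrMod.tilde (𝒮.deg U hU) (ℳ.deg U hU) n))
    (U : S.AffineZariskiSite) {W : P.Opens} (s : Γ(F, W)) : Γ(TwM p chart ℳ n U, W) := (lam U.1 U.2).app W s

theorem vlM_smul {n : ℤ} {U : S.AffineZariskiSite} {W : P.Opens} (r : Γ(P, W)) (t : Γ(TwM p chart ℳ n U, W))
    (y : ProjectiveSpectrum (dg 𝒮 U)) (hy : em p chart U y ∈ W) :
    vlM (r • t) y hy =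
      ((show GrTwist.O (𝒜 := dg 𝒮 U) (op (em p chart U ⁻¹ᵁ W)) from (em p chart U).app W r).1 ⟨y, hy⟩).val •
        vlM t y hy :=
  GrMod.coe_smul_val n y _ _

theorem vlM_add {n : ℤ} {U : S.AffineZariskiSite} {W : P.Opens} (t t' : Γ(TwM p chart ℳ n U, W))
    (y : ProjectiveSpectrum (dg 𝒮 U)) (hy : em p chart U y ∈ W) :
    vlM (t + t') y hy = vlM t y hy + vlM t' y hy := rfl

/-- The product of sections on a chart. -/
def mulTwM {m n k : ℤ} (h : m + n = k) {U : S.AffineZariskiSite} {W : P.Opens} (a : Γ(TwM p chart ℳ m U, W))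
    (b : Γ(Tw p chart n U, W)) : Γ(TwM p chart ℳ k U, W) :=
  (smulSec h (show GrMod.sect (dg 𝒮 U) (ℳ.deg U.1 U.2) m (op (em p chart U ⁻¹ᵁ W)) from a)
    (RelProjK.toSec b) : GrMod.sect (dg 𝒮 U) (ℳ.deg U.1 U.2) k (op (em p chart U ⁻¹ᵁ W)))

theorem vlM_mulTwM {m n k : ℤ} (h : m + n = k) {U : S.AffineZariskiSite} {W : P.Opens}
    (a : Γ(TwM p chart ℳ m U, W)) (b : Γ(Tw p chart n U, W)) (y : ProjectiveSpectrum (dg 𝒮 U))
    (hy : em p chart U y ∈ W) : vlM (mulTwM h a b) y hy = vl b y hy • vlM a y hy := rfl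

variable (hP : RelProj.IsRelProj 𝒮 p chart) (hℳ : Coh.IsQCoh ((AMod.toOS 𝒮.toQCAlg).obj ℳ.mod))
  {m n k : ℤ} (hmn : m + n = k) {F L F' : P.Modules}
  {lam : ∀ (U : S.Opens) (hU : IsAffineOpen U),
    F ⟶ (Scheme.Modules.pushforward (RelProj.emb p chart U hU)).obj (GrMod.tilde (𝒮.deg U hU) (ℳ.deg U hU) m)}
  (hF : RelProj.IsRelTilde 𝒮 p chart ℳ m F lam)
  {lamL : ∀ (U : S.Opens) (hU : IsAffineOpen U),
    L ⟶ (Scheme.Modules.pushforward (RelProj.emb p chart U hU)).obj (GrTwist.twist (𝒮.deg U hU) n)}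
  (hL : RelProj.IsRelTwist 𝒮 p chart n L lamL)
  {lam' : ∀ (U : S.Opens) (hU : IsAffineOpen U),
    F' ⟶ (Scheme.Modules.pushforward (RelProj.emb p chart U hU)).obj (GrMod.tilde (𝒮.deg U hU) (ℳ.deg U hU) k)}
  (hF' : RelProj.IsRelTilde 𝒮 p chart ℳ k F' lam')

include hP hℳ hF' in
theorem existsUnique_section {W : P.Opens} (t : ∀ U : S.AffineZariskiSite, Γ(TwM p chart ℳ k U, W))
    (ht : RelProjK.IsFam (TwM p chart ℳ k) (cmM ℳ hP k) t) :
    ∃! s : Γ(F', W), ∀ U : S.AffineZariskiSite, onChartM lam' U s = t U := by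
  haveI := RelTilde8.isIso_toRelTilde hP hℳ k hF'
  have hb : Function.Bijective ((RelTilde8.toRelTilde hP k hF').app W) :=
    ConcreteCategory.bijective_of_isIso
      ((Scheme.Modules.toPresheaf _).map (RelTilde8.toRelTilde hP k hF') |>.app (op W))
  obtain ⟨s, hs⟩ := hb.2 (⟨t, ht⟩ : RelProjK.famSub (TwM p chart ℳ k) (cmM ℳ hP k) W)
  refine ⟨s, fun U => congrArg (fun v : RelProjK.famSub (TwM p chart ℳ k) (cmM ℳ hP k) W => v.1 U) hs,
    fun s' hs' => hb.1 ?_⟩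
  exact (Subtype.ext (funext hs') :
    (⟨_, isFam_of_isRelTilde hP k hF' s'⟩ : RelProjK.famSub (TwM p chart ℳ k) (cmM ℳ hP k) W) = ⟨t, ht⟩).trans hs.symm

include hP hℳ hF' in
theorem tilde_ext {W : P.Opens} {a b : Γ(F', W)}
    (h : ∀ (U : S.AffineZariskiSite) y hy, vlM (onChartM lam' U a) y hy = vlM (onChartM lam' U b) y hy) : a = b :=
  (existsUnique_section hP hℳ hF' _ (isFam_of_isRelTilde hP k hF' b)).unique (fun U => vlM_ext (h U)) fun _ => rfl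

include hF hL in
theorem isFam_mul {W : P.Opens} (s : Γ(F, W)) (t : Γ(L, W)) :
    RelProjK.IsFam (TwM p chart ℳ k) (cmM ℳ hP k) fun U => mulTwM hmn (onChartM lam U s) (onChart lamL U t) := by
  intro U V h
  refine vlM_ext fun y hy => ?_
  rw [vlM_cmM, vlM_mulTwM, vlM_mulTwM, GrMod.locModMap_smul]
  exact congrArg₂ (· • ·)
    ((vl_cm hP h _ y hy).symm.trans (congrArg (fun v => vl v y hy) (RelProjK.isFam_of_isRelTwist hP n hL t U V h)))
    ((vlM_cmM hP h _ y hy).symm.trans (congrArg (fun v => vlM v y hy) (isFam_of_isRelTilde hP m hF s U V h)))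

/-- The product of sections. -/
def mulM {W : P.Opens} (s : Γ(F, W)) (t : Γ(L, W)) : Γ(F', W) :=
  (existsUnique_section hP hℳ hF' _ (isFam_mul hP hmn hF hL s t)).exists.choose

theorem onChartM_mulM {W : P.Opens} (s : Γ(F, W)) (t : Γ(L, W)) (U : S.AffineZariskiSite) :
    onChartM lam' U (mulM hP hℳ hmn hF hL hF' s t) = mulTwM hmn (onChartM lam U s) (onChart lamL U t) :=
  (existsUnique_section hP hℳ hF' _ (isFam_mul hP hmn hF hL s t)).exists.choose_spec U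

theorem vlM_mulM {W : P.Opens} (s : Γ(F, W)) (t : Γ(L, W)) (U : S.AffineZariskiSite)
    (y : ProjectiveSpectrum (dg 𝒮 U)) (hy : em p chart U y ∈ W) :
    vlM (onChartM lam' U (mulM hP hℳ hmn hF hL hF' s t)) y hy =
      vl (onChart lamL U t) y hy • vlM (onChartM lam U s) y hy :=
  congrArg (fun v => vlM v y hy) (onChartM_mulM hP hℳ hmn hF hL hF' s t U)

theorem onChartM_add {j : ℤ} {G : P.Modules}
    (l : ∀ (U : S.Opens) (hU : IsAffineOpen U),
      G ⟶ (Scheme.Modules.pushforward (RelProj.emb p chart U hU)).obj (GrMod.tilde (𝒮.deg U hU) (ℳ.deg U hU) j))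
    (U : S.AffineZariskiSite) {W : P.Opens} (s t : Γ(G, W)) :
    onChartM l U (s + t) = onChartM l U s + onChartM l U t := map_add _ _ _

theorem onChartM_smul {j : ℤ} {G : P.Modules}
    (l : ∀ (U : S.Opens) (hU : IsAffineOpen U),
      G ⟶ (Scheme.Modules.pushforward (RelProj.emb p chart U hU)).obj (GrMod.tilde (𝒮.deg U hU) (ℳ.deg U hU) j))
    (U : S.AffineZariskiSite) {W : P.Opens} (r : Γ(P, W)) (s : Γ(G, W)) :
    onChartM l U (r • s) = r • onChartM l U s := Scheme.Modules.Hom.app_smul _ r s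

set_option maxHeartbeats 1000000 in
/-- The product on the presheaf tensor product. -/
def mulPre : CohB1.tensorPre F L ⟶ CohB1.toPMod F' where
  app V := ModuleCat.MonoidalCategory.tensorLift
    (fun (s : Γ(F, V.unop)) (t : Γ(L, V.unop)) => mulM hP hℳ hmn hF hL hF' s t)
    (fun s s' t => tilde_ext hP hℳ hF' fun U y hy => by
      rw [onChartM_add, vlM_add, vlM_mulM, vlM_mulM, vlM_mulM, onChartM_add, vlM_add, smul_add])
    (fun (r : Γ(P, V.unop)) (s : Γ(F, V.unop)) (t : Γ(L, V.unop)) => tilde_ext hP hℳ hF' fun U y hy => by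
      rw [onChartM_smul, vlM_smul, vlM_mulM, vlM_mulM, onChartM_smul, vlM_smul, ← mul_smul, ← mul_smul, mul_comm])
    (fun s t t' => tilde_ext hP hℳ hF' fun U y hy => by
      rw [onChartM_add, vlM_add, vlM_mulM, vlM_mulM, vlM_mulM, RelProjK.onChart_add, RelProjK.vl_add, add_smul])
    (fun (r : Γ(P, V.unop)) (s : Γ(F, V.unop)) (t : Γ(L, V.unop)) => tilde_ext hP hℳ hF' fun U y hy => by
      rw [onChartM_smul, vlM_smul, vlM_mulM, vlM_mulM, RelProjK.onChart_smul, RelProjK.vl_smul, mul_smul])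
  naturality {V W} f := ModuleCat.MonoidalCategory.tensor_ext
    (fun (s : Γ(F, V.unop)) (t : Γ(L, V.unop)) => by
      show mulM hP hℳ hmn hF hL hF' (tr F (leOfHom f.unop) s) (tr L (leOfHom f.unop) t) =
        tr F' (leOfHom f.unop) (mulM hP hℳ hmn hF hL hF' s t)
      refine tilde_ext hP hℳ hF' fun U y hy => ?_
      refine (vlM_mulM hP hℳ hmn hF hL hF' _ _ U y hy).trans ?_
      simp only [onChart, onChartM, app_tr]
      exact (vlM_mulM hP hℳ hmn hF hL hF' s t U y (leOfHom f.unop hy)).symm)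

include hP hℳ hmn hF hL hF' in
/-- **`M(m)~ ⊗ O(n) = M(m + n)~` where invertible fractions exist.** -/
theorem nonempty_tensor_iso
    (hx : ∀ x : P, ∃ (U : S.AffineZariskiSite) (y : ProjectiveSpectrum (dg 𝒮 U)) (i j : ℕ)
      (A B : 𝒮.presheaf.obj (op U.1)), em p chart U y = x ∧ A ∈ dg 𝒮 U i ∧ B ∈ dg 𝒮 U j ∧ (i : ℤ) = j + n ∧
        A ∉ y.asHomogeneousIdeal ∧ B ∉ y.asHomogeneousIdeal) :
    Nonempty (CohB1.tensorMod F L ≅ F') := by
  refine Ample.nonempty_tensorMod_iso_of_bijective (mulPre hP hℳ hmn hF hL hF') fun x => ?_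
  obtain ⟨U, y, i, j, A, B, hyx, hA, hB, hd, hAy, hBy⟩ := hx x
  let D : P.Opens := em p chart U ''ᵁ Proj.basicOpen (dg 𝒮 U) (A * B)
  have hyD : y ∈ Proj.basicOpen (dg 𝒮 U) (A * B) := fun h => (y.isPrime.mem_or_mem h).elim hAy hBy
  refine ⟨D, ⟨y, hyD, hyx⟩, fun W hW => ?_⟩
  have hWU : W ≤ p ⁻¹ᵁ U.1 := fun z hz => by
    obtain ⟨w, -, rfl⟩ := hW hz
    exact (mem_opensRange_em U).mp ⟨w, rfl⟩
  have hsub : ∀ w : (em p chart U ⁻¹ᵁ W : (Proj (dg 𝒮 U)).Opens), A * B ∉ w.1.asHomogeneousIdeal := fun w => by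
    obtain ⟨w', hw', e⟩ := hW w.2
    obtain rfl := (em p chart U).isOpenEmbedding.injective e
    exact hw'
  have ninA : ∀ w : (em p chart U ⁻¹ᵁ W : (Proj (dg 𝒮 U)).Opens), A ∉ w.1.asHomogeneousIdeal :=
    fun w h => hsub w (Ideal.mul_mem_right _ _ h)
  have ninB : ∀ w : (em p chart U ⁻¹ᵁ W : (Proj (dg 𝒮 U)).Opens), B ∉ w.1.asHomogeneousIdeal :=
    fun w h => hsub w (Ideal.mul_mem_left _ _ h)
  have hbF := hF.bijective U.1 U.2 W hWU
  have hbL := hL.bijective U.1 U.2 W hWU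
  have hbF' := hF'.bijective U.1 U.2 W hWU
  let e : Γ(Tw p chart n U, W) := RelProjK.ofSec (fracSec A B hA hB ninB hd)
  obtain ⟨e', he'⟩ := hbL.2 e
  have happ : Function.Bijective ((em p chart U).app W).hom := by
    have : W ≤ (em p chart U).opensRange := fun z hz => (mem_opensRange_em U).mpr (hWU hz)
    haveI := (em p chart U).isIso_app W this
    exact ConcreteCategory.bijective_of_isIso ((em p chart U).app W)
  have hspan : ∀ z : Γ(F, W) ⊗[Γ(P, W)] Γ(L, W), ∃ μ, z = μ ⊗ₜ[Γ(P, W)] e' := by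
    intro z
    induction z with
    | zero => exact ⟨0, (TensorProduct.zero_tmul _ _).symm⟩
    | tmul μ t =>
      obtain ⟨r', hr'⟩ := (RelProjK.bijective_smul_fracSec hA hB ninA ninB hd).2 (RelProjK.toSec (onChart lamL U t))
      obtain ⟨r, rfl⟩ := happ.2 r'
      have hrt : r • e' = t := hbL.1 <| by
        rw [Scheme.Modules.Hom.app_smul, he']
        exact hr'
      exact ⟨r • μ, by rw [TensorProduct.smul_tmul, hrt]⟩
    | add z w hz hw =>
      obtain ⟨r, hr⟩ := hz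
      obtain ⟨s, hs⟩ := hw
      exact ⟨r + s, by rw [hr, hs, TensorProduct.add_tmul]⟩
  have hmap : ∀ μ, (show Γ(F', W) from ((mulPre hP hℳ hmn hF hL hF').app (op W)).hom (μ ⊗ₜ[Γ(P, W)] e')) =
      mulM hP hℳ hmn hF hL hF' μ e' := fun μ => rfl
  have hb : Function.Bijective fun μ : Γ(F, W) => mulM hP hℳ hmn hF hL hF' μ e' := by
    refine (hbF'.of_comp_iff' _).mp ?_
    have he : (fun μ : Γ(F, W) => onChartM lam' U (mulM hP hℳ hmn hF hL hF' μ e')) =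
        (fun a : Γ(TwM p chart ℳ m U, W) => mulTwM hmn a e) ∘ fun μ => onChartM lam U μ :=
      funext fun μ => by rw [onChartM_mulM]; exact congrArg (mulTwM hmn _) he'
    show Function.Bijective fun μ : Γ(F, W) => onChartM lam' U (mulM hP hℳ hmn hF hL hF' μ e')
    rw [he]
    exact (bijective_smulSec_fracSec hmn hA hB ninA ninB hd).comp hbF
  constructor
  · intro (z : Γ(F, W) ⊗[Γ(P, W)] Γ(L, W)) (w : Γ(F, W) ⊗[Γ(P, W)] Γ(L, W)) hzw
    obtain ⟨μ, rfl⟩ := hspan z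
    obtain ⟨ν, rfl⟩ := hspan w
    rw [hb.1 ((hmap μ).symm.trans (hzw.trans (hmap ν)))]
  · intro (t : Γ(F', W))
    obtain ⟨μ, hμ⟩ := hb.2 t
    exact ⟨μ ⊗ₜ[Γ(P, W)] e', (hmap μ).trans hμ⟩

end GrothLib.RelTildeTwist8
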